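import Groth.Agent.AgPol.K399.GrpCard
import Groth.Agent.S14142
import Groth.Agent.AbVar.K510.AVPts
import Groth.Agent.AbVar.K513.Tors

/-!
# The order of the `n`-torsion of an abelian variety over an algebraically closed field

`card_iff`: it is `n ^ (2 g)` iff `n` is invertible, `g ≥ 1`.
-/

set_option autoImplicit false
universe u

open CategoryTheory Limits MonoidalCategory CartesianMonoidalCategory AlgebraicGeometry
open scoped MonObj

namespace K399.LevCard

open K399.GrpCard

variable {k : Type u} [Field k] [IsAlgClosed k] (A : Over (Spec (CommRingCat.of k))) [GrpObj A] [IsCommMonObj A]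
  [IsProper A.hom] [Smooth A.hom] [GeometricallyConnected A.hom]

theorem card_iff (g : ℕ) (hg : topologicalKrullDim A.left = g) (hg1 : 1 ≤ g) (n : ℕ) (hn : 1 ≤ n) :
    Nat.card (tor (𝟙_ (Over (Spec (CommRingCat.of k))) ⟶ A) n) = n ^ (2 * g) ↔ (n : k) ≠ 0 := by
  have hint : GeometricallyIntegral A.hom := K513.Tors.geometricallyIntegral A
  constructor
  · intro h h0
    obtain ⟨p, hp⟩ := CharP.exists k
    have hpn : p ∣ n := (CharP.cast_eq_zero_iff k p n).1 h0
    have hp0 : p ≠ 0 := by
      rintro rfl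
      rw [zero_dvd_iff] at hpn
      omega
    have hpp : p.Prime := (CharP.char_is_prime_or_zero k p).resolve_right hp0
    have : Fact p.Prime := ⟨hpp⟩
    obtain ⟨a, m, hm, hnm⟩ := Nat.exists_eq_pow_mul_and_not_dvd (n := n) (by omega) p hpp.ne_one
    have ha : a ≠ 0 := by
      rintro rfl
      rw [pow_zero, one_mul] at hnm
      exact hm (hnm ▸ hpn)
    have hmk : (m : k) ≠ 0 := fun h' => hm ((CharP.cast_eq_zero_iff k p m).1 h')
    obtain ⟨i, hi, H⟩ := Groth.Agent.S14142.result k p A g hg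
    have h1 : Nat.card (tor (𝟙_ (Over (Spec (CommRingCat.of k))) ⟶ A) (p ^ a)) = (p ^ a) ^ i := by
      obtain ⟨e⟩ := H a
      have h2 : Nat.card (Multiplicative (Fin i → ZMod (p ^ a))) = (p ^ a) ^ i := by
        rw [Nat.card_congr Multiplicative.toAdd, Nat.card_fun, Nat.card_zmod]
        simp
      exact (Nat.card_congr e.toEquiv).trans h2
    have h2 : Nat.card (tor (𝟙_ (Over (Spec (CommRingCat.of k))) ⟶ A) m) = m ^ (2 * g) :=
      K510.AVPts.card_torsPts A g hg m hmk
    have hmul := card_mul (G := (𝟙_ (Over (Spec (CommRingCat.of k))) ⟶ A)) (p ^ a) m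
      (fun x => K510.AVPts.exists_pow_eq A (p ^ a) (Nat.one_le_iff_ne_zero.2 (pow_ne_zero _ hp0)) x)
    rw [hnm, hmul, h1, h2, mul_pow] at h
    have hm0 : 0 < m ^ (2 * g) := pow_pos (Nat.pos_of_ne_zero (by rintro rfl; exact hmk Nat.cast_zero)) _
    have h3 : (p ^ a) ^ i = (p ^ a) ^ (2 * g) := Nat.eq_of_mul_eq_mul_right hm0 h
    have h4 : 1 < p ^ a := Nat.one_lt_pow ha hpp.one_lt
    have h5 := Nat.pow_right_injective h4 h3
    omega
  · intro h
    exact K510.AVPts.card_torsPts A g hg n h

end K399.LevCard
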