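import Groth.Agent.AgPol.K399.LevMain
import Groth.Agent.AgPol.K399.LevCard
import Groth.Agent.AgPol.K117.Nodes
import Groth.Agent.Red.K216.DimPt

/-!
# Node LEVLOC of S14158: level structures are a locally closed condition
-/

set_option autoImplicit false
universe u

open CategoryTheory Limits MonoidalCategory CartesianMonoidalCategory AlgebraicGeometry
open scoped MonObj

namespace K399.LevLoc

open K399.GrpCard K399.LevPts

/-- The order of the `n`-torsion at a geometric point of an abelian scheme. -/
theorem card_iff {T : Scheme.{u}} (A : Over T) [GrpObj A] [IsCommMonObj A] (g n : ℕ) (hg : 1 ≤ g) (hn : 1 ≤ n)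
    (hA : AgPol.IsAbSch A g) (Ω : Type u) [Field Ω] [IsAlgClosed Ω] (t : Spec (CommRingCat.of Ω) ⟶ T) :
    Nat.card {x : Over.mk t ⟶ A | x ^ n = 1} = n ^ (2 * g) ↔ (n : Ω) ≠ 0 := by
  have i1 := hA.smooth
  have i2 := hA.proper
  have i3 := hA.geomConnected
  have j1 : Smooth (Red.bc t A).hom := inferInstanceAs (Smooth (pullback.snd A.hom t))
  have j2 : IsProper (Red.bc t A).hom := inferInstanceAs (IsProper (pullback.snd A.hom t))
  have j3 : GeometricallyConnected (Red.bc t A).hom := inferInstanceAs (GeometricallyConnected (pullback.snd A.hom t))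
  have hdim : topologicalKrullDim (Red.bc t A).left = g :=
    (K216.DimPt.dim_pullback_field t A.hom _ ⟨IsLocalRing.closedPoint Ω, rfl⟩).trans (hA.fibreDim _)
  rw [← LevCard.card_iff (Red.bc t A) g hdim hg n hn, ← card_transport (K530.TateBC.ptE t A) n]
  exact Iff.rfl

theorem levLocus : K117.Ag.Node.LevLocus.{u} := by
  intro T _ A _ _ g n hg hn hA σ
  have i2 := hA.proper
  obtain ⟨Z, z, h1, h2, H⟩ := LevMain.main_of A g n hn σ fun Ω _ _ t => card_iff A g n hg hn hA Ω t
  exact ⟨Z, z, h1, h2, fun T' _ f => H T' f⟩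

end K399.LevLoc
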