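import Groth.Agent.AgPol.K399.GrpCard
import Groth.Agent.AbVar.K530.TateBC
import Groth.Agent.Red.K216.DimPt
import Groth.Prelude.Def_AgMod

/-!
# Level structures and base change

* `Rep`, `rep_forall`, `rep_eq`: closed conditions on schemes over `T`;
* `isLevelStr_iff`: a level structure on the base change in terms of points over `T`.
-/

set_option autoImplicit false
universe u

open CategoryTheory Limits MonoidalCategory CartesianMonoidalCategory AlgebraicGeometry
open scoped MonObj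

namespace K399.LevPts

open K399.GrpCard

/-- A closed condition on schemes over `T`. -/
def Rep {T : Scheme.{u}} (P : ∀ (T' : Scheme.{u}) (_ : T' ⟶ T), Prop) : Prop :=
  ∃ (Z : Scheme.{u}) (z : Z ⟶ T), IsClosedImmersion z ∧ ∀ (T' : Scheme.{u}) (f : T' ⟶ T), P T' f ↔ ∃ h : T' ⟶ Z, h ≫ z = f

theorem rep_finset {T : Scheme.{u}} {κ : Type*} (s : Finset κ) (P : κ → ∀ (T' : Scheme.{u}) (_ : T' ⟶ T), Prop)
    (h : ∀ i, Rep (P i)) : Rep (fun T' f => ∀ i ∈ s, P i T' f) := by
  classical
  induction s using Finset.induction_on with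
  | empty => exact ⟨T, 𝟙 T, inferInstance, fun T' f => ⟨fun _ => ⟨f, Category.comp_id f⟩, by simp⟩⟩
  | insert i s _ ih =>
    obtain ⟨Z, z, hz, H⟩ := ih
    obtain ⟨Y, y, hy, K⟩ := h i
    refine ⟨pullback z y, pullback.fst z y ≫ z, inferInstance, fun T' f => ?_⟩
    change (∀ j ∈ insert i s, P j T' f) ↔ _
    have H' : (∀ j ∈ s, P j T' f) ↔ _ := H T' f
    rw [Finset.forall_mem_insert, H', K]
    constructor
    · rintro ⟨⟨b, rfl⟩, ⟨a, ha⟩⟩
      exact ⟨pullback.lift a b ha, by rw [pullback.lift_fst_assoc, ha]⟩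
    · rintro ⟨c, rfl⟩
      exact ⟨⟨c ≫ pullback.snd z y, by rw [Category.assoc, ← pullback.condition]⟩,
        ⟨c ≫ pullback.fst z y, Category.assoc _ _ _⟩⟩

theorem rep_forall {T : Scheme.{u}} {κ : Type*} [Finite κ] (P : κ → ∀ (T' : Scheme.{u}) (_ : T' ⟶ T), Prop)
    (h : ∀ i, Rep (P i)) : Rep (fun T' f => ∀ i, P i T' f) := by
  cases nonempty_fintype κ
  obtain ⟨Z, z, hz, H⟩ := rep_finset Finset.univ P h
  refine ⟨Z, z, hz, fun T' f => ?_⟩
  have H' : (∀ j ∈ Finset.univ, P j T' f) ↔ _ := H T' f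
  rw [← H']
  simp

section eq

variable {T : Scheme.{u}} {A : Over T} [IsSeparated A.hom]

theorem rep_eq (a b : 𝟙_ (Over T) ⟶ A) :
    Rep (fun T' f => toUnit (Over.mk f) ≫ a = toUnit (Over.mk f) ≫ b) := by
  refine ⟨(equalizer a b).left, (equalizer.ι a b).left, inferInstance, fun T' f => ⟨fun h => ?_, ?_⟩⟩
  · refine ⟨(equalizer.lift (toUnit (Over.mk f)) h).left, ?_⟩
    have h1 := congrArg (fun t : Over.mk f ⟶ 𝟙_ (Over T) => t.left) (equalizer.lift_ι (toUnit (Over.mk f)) h)
    exact h1.trans Over.toUnit_left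
  · rintro ⟨c, hc⟩
    have hw : c ≫ (equalizer a b).hom = f := by
      have h1 : (equalizer.ι a b).left ≫ (𝟙_ (Over T)).hom = (equalizer a b).hom := Over.w _
      rw [← h1, ← Category.assoc, hc]
      exact Category.comp_id f
    let l : Over.mk f ⟶ equalizer a b := Over.homMk c hw
    have hl : toUnit (Over.mk f) = l ≫ equalizer.ι a b := toUnit_unique _ _
    rw [hl, Category.assoc, Category.assoc, equalizer.condition]

end eq

theorem transport {G H : Type*} [Group G] [Group H] (e : G ≃* H) {r n : ℕ} (s : Fin r → G) :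
    ((Subgroup.closure (Set.range fun i => e (s i)) : Set H) = {x | x ^ n = 1}) ↔
      ((Subgroup.closure (Set.range s) : Set G) = {x | x ^ n = 1}) := by
  have h1 : (Subgroup.closure (Set.range fun i => e (s i)) : Set H) = e '' (Subgroup.closure (Set.range s)) := by
    rw [show (Set.range fun i => e (s i)) = e.toMonoidHom '' Set.range s from by
      rw [← Set.range_comp]; rfl, ← MonoidHom.map_closure]
    rfl
  have h2 : {x : H | x ^ n = 1} = e '' {x : G | x ^ n = 1} := by
    ext x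
    constructor
    · intro hx
      refine ⟨e.symm x, ?_, e.apply_symm_apply x⟩
      change e.symm x ^ n = 1
      rw [← map_pow, show x ^ n = 1 from hx, map_one]
    · rintro ⟨y, hy, rfl⟩
      change e y ^ n = 1
      rw [← map_pow, show y ^ n = 1 from hy, map_one]
  rw [h1, h2, e.injective.image_injective.eq_iff]

theorem card_transport {G H : Type*} [Group G] [Group H] (e : G ≃* H) (n : ℕ) :
    Nat.card {x : H | x ^ n = 1} = Nat.card {x : G | x ^ n = 1} := by
  refine (Nat.card_congr (e.toEquiv.subtypeEquiv fun x => ?_)).symm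
  change x ^ n = 1 ↔ e x ^ n = 1
  rw [← map_pow, ← map_one e, e.injective.eq_iff]

section points

variable {T : Scheme.{u}} (A : Over T) [GrpObj A]

/-- Base change of a section. -/
noncomputable def secBc {T' : Scheme.{u}} (f : T' ⟶ T) {X : Over T} (s : 𝟙_ (Over T) ⟶ X) :
    𝟙_ (Over T') ⟶ Red.bc f X :=
  AgPol.Fam.pullSec (T := Over.mk (𝟙 T)) (T' := Over.mk f) f s

theorem bcEquiv_toUnit {T' : Scheme.{u}} (f : T' ⟶ T) (W : Over T') (s : 𝟙_ (Over T) ⟶ A) :
    Groth.Agent.Sga3B.DSPts.bcEquiv f W A (toUnit ((Over.map f).obj W) ≫ s) = toUnit W ≫ secBc f s := by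
  ext1
  apply pullback.hom_ext
  · rw [Groth.Agent.Sga3B.DSPts.bcEquiv_fst]
    have h1 : (toUnit W ≫ secBc f s).left ≫ pullback.fst A.hom f = (toUnit W).left ≫ (f ≫ s.left) := by
      change ((toUnit W).left ≫ pullback.lift (f ≫ s.left) (𝟙 T') _) ≫ pullback.fst A.hom f = _
      rw [Category.assoc, pullback.lift_fst]
    rw [h1, Over.comp_left, Over.toUnit_left, Over.toUnit_left]
    simp
  · have h1 := Over.w (Groth.Agent.Sga3B.DSPts.bcEquiv f W A (toUnit ((Over.map f).obj W) ≫ s))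
    have h2 := Over.w (toUnit W ≫ secBc f s)
    exact h1.trans h2.symm

theorem ptE_toUnit {T' : Scheme.{u}} (f : T' ⟶ T) (s : 𝟙_ (Over T) ⟶ A) :
    K530.TateBC.ptE f A (toUnit (Over.mk f) ≫ s) = secBc f s := by
  rw [K530.TateBC.ptE_apply, ← Category.assoc,
    show (K530.TateBC.mkIso f).hom ≫ toUnit (Over.mk f) = toUnit ((Over.map f).obj (Over.mk (𝟙 T'))) from
      toUnit_unique _ _, bcEquiv_toUnit]
  have : toUnit (Over.mk (𝟙 T')) = 𝟙 (𝟙_ (Over T')) := toUnit_unique _ _
  rw [this]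
  exact Category.id_comp _

/-- The level structure condition in terms of points over `T`. -/
theorem isLevelStr_iff {g n : ℕ} (σ : Fin (2 * g) → (𝟙_ (Over T) ⟶ A)) {T' : Scheme.{u}} (f : T' ⟶ T) :
    AgPol.IsLevelStr (Red.bc f A) g n (fun i => secBc f (σ i)) ↔
      (∀ i, toUnit (Over.mk f) ≫ σ i ^ n = toUnit (Over.mk f) ≫ 1) ∧
        ∀ (Ω : Type u) [Field Ω] [IsAlgClosed Ω] (t : Spec (CommRingCat.of Ω) ⟶ T'),
          (Subgroup.closure (Set.range fun i => toUnit (Over.mk (t ≫ f)) ≫ σ i) : Set (Over.mk (t ≫ f) ⟶ A)) =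
              {x | x ^ n = 1} ∧
            Nat.card {x : Over.mk (t ≫ f) ⟶ A | x ^ n = 1} = n ^ (2 * g) := by
  refine and_congr (forall_congr' fun i => ?_) (forall_congr' fun Ω => forall_congr' fun _ => forall_congr' fun _ =>
    forall_congr' fun t => and_congr ?_ ?_)
  · change secBc f (σ i) ^ n = 1 ↔ _
    rw [← ptE_toUnit, ← map_pow, ← map_one (K530.TateBC.ptE f A), (K530.TateBC.ptE f A).injective.eq_iff,
      MonObj.comp_pow, MonObj.comp_one]
  · refine Iff.trans ?_ (transport (n := n) (Groth.Agent.Sga3B.DSPts.bcEquiv f (Over.mk t) A)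
      (fun i => toUnit (Over.mk (t ≫ f)) ≫ σ i))
    have h : (fun i => toUnit (Over.mk t) ≫ secBc f (σ i)) =
        fun i => Groth.Agent.Sga3B.DSPts.bcEquiv f (Over.mk t) A (toUnit ((Over.map f).obj (Over.mk t)) ≫ σ i) :=
      funext fun i => (bcEquiv_toUnit A f (Over.mk t) (σ i)).symm
    change ((Subgroup.closure (Set.range fun i => toUnit (Over.mk t) ≫ secBc f (σ i)) :
      Subgroup (Over.mk t ⟶ Red.bc f A)) : Set (Over.mk t ⟶ Red.bc f A)) = _ ↔ _
    rw [h]
    rfl
  · exact Eq.congr (card_transport (Groth.Agent.Sga3B.DSPts.bcEquiv f (Over.mk t) A) n) rfl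

end points

end K399.LevPts
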