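import Mathlib

/-!
# Generators of torsion subgroups of commutative groups

* `level_iff`: `r` elements killed by `n` generate `G[n]`, of order `n ^ r`, iff the `n ^ r` products are distinct;
* `card_mul`: `#G[a b] = #G[a] * #G[b]` for `G` divisible.
-/

set_option autoImplicit false

namespace K399.GrpCard

variable {G : Type*} [CommGroup G]

theorem closure_eq_range {r n : ℕ} (hn : 1 ≤ n) (s : Fin r → G) (hs : ∀ i, s i ^ n = 1) :
    (Subgroup.closure (Set.range s) : Set G) = Set.range (fun a : Fin r → Fin n => ∏ i, s i ^ (a i : ℕ)) := by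
  have hQ : ∀ b : Fin r → ℕ, (∏ i, s i ^ b i) ∈ Set.range (fun a : Fin r → Fin n => ∏ i, s i ^ (a i : ℕ)) := by
    intro b
    refine ⟨fun i => ⟨b i % n, Nat.mod_lt _ hn⟩, ?_⟩
    refine Finset.prod_congr rfl fun i _ => ?_
    exact (pow_eq_pow_mod (b i) (hs i)).symm
  ext x
  constructor
  · intro hx
    suffices h : ∃ b : Fin r → ℕ, ∏ i, s i ^ b i = x by
      obtain ⟨b, rfl⟩ := h
      exact hQ b
    induction hx using Subgroup.closure_induction with
    | mem x hx =>
      obtain ⟨i, rfl⟩ := hx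
      refine ⟨Pi.single i 1, ?_⟩
      rw [Finset.prod_eq_single i]
      · simp
      · intro j _ hj
        simp [hj]
      · simp
    | one => exact ⟨0, by simp⟩
    | mul x y _ _ hx hy =>
      obtain ⟨b, rfl⟩ := hx
      obtain ⟨c, rfl⟩ := hy
      exact ⟨b + c, by simp [pow_add, Finset.prod_mul_distrib]⟩
    | inv x _ hx =>
      obtain ⟨b, rfl⟩ := hx
      refine ⟨fun i => (n - 1) * b i, ?_⟩
      rw [eq_inv_iff_mul_eq_one, ← Finset.prod_mul_distrib]
      refine Finset.prod_eq_one fun i _ => ?_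
      rw [← pow_add, show (n - 1) * b i + b i = n * b i by
        rw [← Nat.succ_mul]; congr 1; omega, pow_mul, hs, one_pow]
  · rintro ⟨a, rfl⟩
    refine Subgroup.prod_mem (Subgroup.closure (Set.range s)) fun i _ => ?_
    exact Subgroup.pow_mem _ (Subgroup.subset_closure (Set.mem_range_self i)) _

theorem level_iff {r n : ℕ} (hn : 1 ≤ n) (s : Fin r → G) (hs : ∀ i, s i ^ n = 1)
    (hcard : Nat.card {x : G | x ^ n = 1} = n ^ r) :
    ((Subgroup.closure (Set.range s) : Set G) = {x | x ^ n = 1}) ↔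
      Function.Injective (fun a : Fin r → Fin n => ∏ i, s i ^ (a i : ℕ)) := by
  rw [closure_eq_range hn s hs]
  have hmem : ∀ a : Fin r → Fin n, (∏ i, s i ^ (a i : ℕ)) ∈ {x : G | x ^ n = 1} := by
    intro a
    rw [Set.mem_ofPred_eq, ← Finset.prod_pow]
    refine Finset.prod_eq_one fun i _ => ?_
    rw [← pow_mul, mul_comm, pow_mul, hs, one_pow]
  let P : (Fin r → Fin n) → {x : G | x ^ n = 1} := fun a => ⟨_, hmem a⟩
  have hfin : Finite {x : G | x ^ n = 1} :=
    Nat.finite_of_card_ne_zero (by rw [hcard]; exact (pow_pos hn _).ne')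
  have hc : Nat.card (Fin r → Fin n) = n ^ r := by simp
  constructor
  · intro h
    have hP : Function.Surjective P := by
      rintro ⟨x, hx⟩
      rw [← h] at hx
      obtain ⟨a, ha⟩ := hx
      exact ⟨a, Subtype.ext ha⟩
    have hb := hP.bijective_of_nat_card_le (by rw [hc, hcard])
    intro a b hab
    exact hb.1 (Subtype.ext hab)
  · intro h
    have hP : Function.Injective P := fun a b hab => h (congrArg Subtype.val hab)
    have hb := hP.bijective_of_nat_card_le (by rw [hc, hcard])
    refine Set.Subset.antisymm ?_ ?_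
    · rintro _ ⟨a, rfl⟩
      exact hmem a
    · intro x hx
      obtain ⟨a, ha⟩ := hb.2 ⟨x, hx⟩
      exact ⟨a, congrArg Subtype.val ha⟩

/-- The `n`-torsion subgroup. -/
def tor (G : Type*) [CommGroup G] (n : ℕ) : Subgroup G := (powMonoidHom n : G →* G).ker

theorem mem_tor {n : ℕ} {x : G} : x ∈ tor G n ↔ x ^ n = 1 := Iff.rfl

theorem card_mul (a b : ℕ) (hdiv : ∀ x : G, ∃ y : G, y ^ a = x) :
    Nat.card (tor G (a * b)) = Nat.card (tor G a) * Nat.card (tor G b) := by
  let φ : tor G (a * b) →* tor G b :=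
    { toFun := fun x => ⟨x.1 ^ a, by rw [mem_tor, ← pow_mul]; exact x.2⟩
      map_one' := Subtype.ext (one_pow _)
      map_mul' := fun x y => Subtype.ext (mul_pow _ _ _) }
  have hφ : Function.Surjective φ := by
    rintro ⟨x, hx⟩
    obtain ⟨y, rfl⟩ := hdiv x
    exact ⟨⟨y, by rw [mem_tor, pow_mul]; exact hx⟩, rfl⟩
  have h1 : Nat.card (tor G (a * b)) = Nat.card (tor G (a * b) ⧸ φ.ker) * Nat.card φ.ker :=
    Subgroup.card_eq_card_quotient_mul_card_subgroup _
  have h2 : Nat.card (tor G (a * b) ⧸ φ.ker) = Nat.card (tor G b) :=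
    Nat.card_congr (QuotientGroup.quotientKerEquivOfSurjective φ hφ).toEquiv
  have h3 : Nat.card φ.ker = Nat.card (tor G a) := by
    refine Nat.card_congr
      { toFun := fun x => ⟨x.1.1, congrArg Subtype.val x.2⟩
        invFun := fun x => ⟨⟨x.1, by rw [mem_tor, pow_mul, mem_tor.1 x.2, one_pow]⟩, Subtype.ext x.2⟩
        left_inv := fun x => rfl
        right_inv := fun x => rfl }
  rw [h1, h2, h3, mul_comm]

end K399.GrpCard
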