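import Groth.Agent.AgPol.K399.LevPts

/-!
# Level structures are a locally closed condition: geometry

`main_of`: the condition "the pulled back sections are a level-`n` structure" is represented by an immersion, granted the
order of the `n`-torsion at geometric points.
-/

set_option autoImplicit false
universe u

open CategoryTheory Limits MonoidalCategory CartesianMonoidalCategory AlgebraicGeometry TopologicalSpace
open scoped MonObj

namespace K399.LevMain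

open K399.GrpCard K399.LevPts

theorem exists_geom {W : Scheme.{u}} (w : W) : ∃ (Ω : Type u) (_ : Field Ω) (_ : IsAlgClosed Ω)
    (t : Spec (CommRingCat.of Ω) ⟶ W), w ∈ Set.range t := by
  let a : Spec (CommRingCat.of (AlgebraicClosure (W.residueField w))) ⟶ Spec (W.residueField w) :=
    Spec.map (CommRingCat.ofHom (algebraMap (W.residueField w) (AlgebraicClosure (W.residueField w))))
  let x : ↥(Spec (CommRingCat.of (AlgebraicClosure (W.residueField w)))) :=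
    IsLocalRing.closedPoint (AlgebraicClosure (W.residueField w))
  have h : (a ≫ W.fromSpecResidueField w) x = w := by
    rw [Scheme.Hom.comp_apply]
    exact W.fromSpecResidueField_apply w (a x)
  exact ⟨AlgebraicClosure (W.residueField w), inferInstance, inferInstance, a ≫ W.fromSpecResidueField w, x, h⟩

/-- `n` is invertible at the image of a point with values in a field iff it is so in the field. -/
theorem mem_basicOpen_iff {T : Scheme.{u}} {Ω : Type u} [Field Ω] (t : Spec (CommRingCat.of Ω) ⟶ T) (n : ℕ)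
    (x : Spec (CommRingCat.of Ω)) : t x ∈ T.basicOpen (n : Γ(T, ⊤)) ↔ (n : Ω) ≠ 0 := by
  have h1 : t x ∈ T.basicOpen (n : Γ(T, ⊤)) ↔
      x ∈ (Spec (CommRingCat.of Ω)).basicOpen (n : Γ(Spec (CommRingCat.of Ω), ⊤)) := by
    have h2 := Scheme.preimage_basicOpen_top t (n : Γ(T, ⊤))
    rw [map_natCast] at h2
    rw [← h2]
    rfl
  rw [h1, basicOpen_eq_of_affine']
  have h3 : (Scheme.ΓSpecIso (CommRingCat.of Ω)).hom (n : Γ(Spec (CommRingCat.of Ω), ⊤)) = (n : Ω) := map_natCast _ _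
  rw [h3]
  change (n : Ω) ∉ x.asIdeal ↔ _
  rw [(Ideal.eq_bot_or_top x.asIdeal).resolve_right x.2.ne_top, Ideal.mem_bot]

theorem subset_basicOpen_iff {T T' : Scheme.{u}} (f : T' ⟶ T) (n : ℕ) :
    Set.range f ⊆ (T.basicOpen (n : Γ(T, ⊤)) : Set T) ↔
      ∀ (Ω : Type u) [Field Ω] [IsAlgClosed Ω] (_ : Spec (CommRingCat.of Ω) ⟶ T'), (n : Ω) ≠ 0 := by
  constructor
  · intro h Ω _ _ t
    exact (mem_basicOpen_iff (t ≫ f) n (IsLocalRing.closedPoint Ω)).1 (h ⟨t (IsLocalRing.closedPoint Ω), rfl⟩)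
  · rintro h _ ⟨y, rfl⟩
    obtain ⟨Ω, _, _, t, x, rfl⟩ := exists_geom y
    exact (mem_basicOpen_iff (t ≫ f) n x).2 (h Ω t)

/-- A closed condition fails at all geometric points iff the image misses the closed subscheme. -/
theorem disjoint_iff {T T' Z : Scheme.{u}} (f : T' ⟶ T) (z : Z ⟶ T) :
    Set.range f ⊆ (Set.range z)ᶜ ↔
      ∀ (Ω : Type u) [Field Ω] [IsAlgClosed Ω] (t : Spec (CommRingCat.of Ω) ⟶ T'), ¬ ∃ h, h ≫ z = t ≫ f := by
  constructor
  · rintro h Ω _ _ t ⟨c, hc⟩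
    refine h ⟨t (IsLocalRing.closedPoint Ω), rfl⟩ ⟨c (IsLocalRing.closedPoint Ω), ?_⟩
    exact congrArg (fun m : Spec (CommRingCat.of Ω) ⟶ T => m (IsLocalRing.closedPoint Ω)) hc
  · rintro h _ ⟨y, rfl⟩ ⟨e, he⟩
    obtain ⟨w, -, -⟩ := Scheme.Pullback.exists_preimage_pullback (f := f) (g := z) y e he.symm
    obtain ⟨Ω, _, _, t, -⟩ := exists_geom w
    exact h Ω (t ≫ pullback.fst f z) ⟨t ≫ pullback.snd f z, by
      rw [Category.assoc, Category.assoc, pullback.condition]⟩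

variable {T : Scheme.{u}} [IsLocallyNoetherian T] (A : Over T) [GrpObj A] [IsCommMonObj A] [IsSeparated A.hom]

theorem main_of (g n : ℕ) (hn : 1 ≤ n) (σ : Fin (2 * g) → (𝟙_ (Over T) ⟶ A))
    (hcard : ∀ (Ω : Type u) [Field Ω] [IsAlgClosed Ω] (t : Spec (CommRingCat.of Ω) ⟶ T),
      Nat.card {x : Over.mk t ⟶ A | x ^ n = 1} = n ^ (2 * g) ↔ (n : Ω) ≠ 0) :
    ∃ (Z : Scheme.{u}) (z : Z ⟶ T), IsImmersion z ∧ QuasiCompact z ∧
      ∀ (T' : Scheme.{u}) (f : T' ⟶ T),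
        (AgPol.IsLevelStr (Red.bc f A) g n (fun i => secBc f (σ i)) ↔ ∃ h : T' ⟶ Z, h ≫ z = f) := by
  let P : (Fin (2 * g) → Fin n) → (𝟙_ (Over T) ⟶ A) := fun a => ∏ i, σ i ^ (a i : ℕ)
  have hP : ∀ {T' : Scheme.{u}} (f : T' ⟶ T) (a : Fin (2 * g) → Fin n),
      toUnit (Over.mk f) ≫ P a = ∏ i, (toUnit (Over.mk f) ≫ σ i) ^ (a i : ℕ) := by
    intro T' f a
    let φ : (𝟙_ (Over T) ⟶ A) →* (Over.mk f ⟶ A) :=
      { toFun := fun x => toUnit (Over.mk f) ≫ x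
        map_one' := MonObj.comp_one _
        map_mul' := fun x y => MonObj.comp_mul _ _ _ }
    change φ (∏ i, σ i ^ (a i : ℕ)) = ∏ i, φ (σ i) ^ (a i : ℕ)
    rw [map_prod]
    simp only [map_pow]
  obtain ⟨Z₁, z₁, hz₁, H₁⟩ := rep_forall (fun i (T' : Scheme.{u}) (f : T' ⟶ T) =>
    toUnit (Over.mk f) ≫ σ i ^ n = toUnit (Over.mk f) ≫ (1 : 𝟙_ (Over T) ⟶ A)) (fun i => rep_eq _ _)
  choose E e he HE using fun p : (Fin (2 * g) → Fin n) × (Fin (2 * g) → Fin n) => rep_eq (A := A) (P p.1) (P p.2)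
  let C : Set T := ⋃ p : {p : (Fin (2 * g) → Fin n) × (Fin (2 * g) → Fin n) // p.1 ≠ p.2}, Set.range (e p.1)
  have hC : IsClosed C := isClosed_iUnion_of_finite fun p => (e p.1).isClosedEmbedding.isClosed_range
  let U : T.Opens := T.basicOpen (n : Γ(T, ⊤)) ⊓ ⟨Cᶜ, hC.isOpen_compl⟩
  have hU : ∀ (T' : Scheme.{u}) (f : T' ⟶ T), Set.range f ⊆ (U : Set T) ↔
      ∀ (Ω : Type u) [Field Ω] [IsAlgClosed Ω] (t : Spec (CommRingCat.of Ω) ⟶ T'), (n : Ω) ≠ 0 ∧
        Function.Injective (fun a : Fin (2 * g) → Fin n =>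
          ∏ i, (toUnit (Over.mk (t ≫ f)) ≫ σ i) ^ (a i : ℕ)) := by
    intro T' f
    have h1 : Set.range f ⊆ (U : Set T) ↔ Set.range f ⊆ (T.basicOpen (n : Γ(T, ⊤)) : Set T) ∧
        ∀ p : {p : (Fin (2 * g) → Fin n) × (Fin (2 * g) → Fin n) // p.1 ≠ p.2},
          Set.range f ⊆ (Set.range (e p.1))ᶜ := by
      constructor
      · intro h
        refine ⟨fun x hx => (h hx).1, fun p x hx hx' => (h hx).2 ?_⟩
        exact Set.mem_iUnion.2 ⟨p, hx'⟩
      · rintro ⟨h, h'⟩ x hx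
        refine ⟨h hx, fun hx' => ?_⟩
        obtain ⟨p, hp⟩ := Set.mem_iUnion.1 hx'
        exact h' p hx hp
    rw [h1, subset_basicOpen_iff]
    simp only [disjoint_iff]
    constructor
    · rintro ⟨h, h'⟩ Ω _ _ t
      refine ⟨h Ω t, fun a b hab => ?_⟩
      by_contra hne
      refine h' ⟨(a, b), hne⟩ Ω t ((HE (a, b) _ (t ≫ f)).1 ?_)
      change toUnit (Over.mk (t ≫ f)) ≫ P a = toUnit (Over.mk (t ≫ f)) ≫ P b
      rw [hP, hP]
      exact hab
    · intro h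
      refine ⟨fun Ω _ _ t => (h Ω t).1, fun p Ω _ _ t hc => p.2 ((h Ω t).2 ?_)⟩
      have h2 : toUnit (Over.mk (t ≫ f)) ≫ P p.1.1 = toUnit (Over.mk (t ≫ f)) ≫ P p.1.2 := (HE p.1 _ (t ≫ f)).2 hc
      rw [hP, hP] at h2
      exact h2
  have hN : IsLocallyNoetherian Z₁ := LocallyOfFiniteType.isLocallyNoetherian z₁
  refine ⟨z₁ ⁻¹ᵁ U, (z₁ ⁻¹ᵁ U).ι ≫ z₁, inferInstance, inferInstance, fun T' f => ?_⟩
  have hfac : (∃ h : T' ⟶ z₁ ⁻¹ᵁ U, h ≫ (z₁ ⁻¹ᵁ U).ι ≫ z₁ = f) ↔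
      (∃ h : T' ⟶ Z₁, h ≫ z₁ = f) ∧ Set.range f ⊆ (U : Set T) := by
    constructor
    · rintro ⟨h, rfl⟩
      refine ⟨⟨h ≫ (z₁ ⁻¹ᵁ U).ι, Category.assoc _ _ _⟩, ?_⟩
      rintro _ ⟨y, rfl⟩
      exact (h y).2
    · rintro ⟨⟨h, rfl⟩, hr⟩
      have hr' : Set.range h ⊆ Set.range (z₁ ⁻¹ᵁ U).ι := by
        rw [Scheme.Opens.range_ι]
        rintro _ ⟨y, rfl⟩
        exact hr ⟨y, rfl⟩
      refine ⟨IsOpenImmersion.lift (z₁ ⁻¹ᵁ U).ι h hr', ?_⟩
      rw [← Category.assoc, IsOpenImmersion.lift_fac]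
  rw [hfac, ← H₁, hU, isLevelStr_iff]
  refine and_congr_right fun h1 => forall_congr' fun Ω => forall_congr' fun _ => forall_congr' fun _ =>
    forall_congr' fun t => ?_
  have hs : ∀ i, (toUnit (Over.mk (t ≫ f)) ≫ σ i) ^ n = 1 := by
    intro i
    let l : Over.mk (t ≫ f) ⟶ Over.mk f := Over.homMk t rfl
    have h2 : toUnit (Over.mk (t ≫ f)) = l ≫ toUnit (Over.mk f) := toUnit_unique _ _
    rw [← MonObj.comp_pow, h2, Category.assoc, h1 i, MonObj.comp_one, MonObj.comp_one]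
  rw [and_comm, hcard Ω (t ≫ f)]
  refine and_congr_right fun hnΩ => ?_
  exact level_iff hn _ hs ((hcard Ω (t ≫ f)).2 hnΩ)

end K399.LevMain
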